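import Cfsg.Agent.OddHalf.CaseM.Sheet
import Cfsg.Agent.OddHalf.CaseM.Main
import Cfsg.Agent.OddHalf.D8.Front
import Cfsg.Agent.SignalizersComponents.CompBasic
import Mathlib
import Cfsg.Prelude.Def_Local
import Cfsg.Agent.SignalizersComponents.Components
import Cfsg.Agent.S1270
import Cfsg.Agent.S1306
import Cfsg.Agent.OddHalf.D8.MainE
import Cfsg.Agent.OddHalf.D1.RankOne
import Cfsg.Agent.OddHalf.Table.Iface17
import Cfsg.Agent.OddHalf.Soft
import Cfsg.Agent.Schreier.Cases

-- merged: Cfsg.Agent.OddHalf.CaseM.GlueM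
section

/-!
# Case (M) of D8: from the sheets of `K` to `X = C_G(z)`
-/

set_option autoImplicit false

namespace Cfsg.Agent.OddHalf.CaseM

open Subgroup Cfsg
open Cfsg.Agent.OddHalf.Front.FE Cfsg.Agent.OddHalf.D8.Sheet Cfsg.Agent.OddHalf.D8.GlueE
open Cfsg.Agent.OddHalf.D8.Front
open Cfsg.Agent.Cit (cj mem_cj conj_mem_cj conj_mem_cj_iff)

open scoped commutatorElement

universe u

/-- a perfect subgroup normalised in the sense `⁅W, A⁆ = W`, `A ≤ S`, lies in the subnormal subgroup `S` -/
theorem le_of_subnormal {Q : Type*} [Group Q] {W A S : Subgroup Q} (hW : ⁅W, A⁆ = W) (hA : A ≤ S)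
    (hS : S.IsSubnormal) : W ≤ S := by
  have key : ∀ H : Subgroup Q, H.IsSubnormal → A ≤ H → W ≤ H := by
    intro H hH
    induction hH with
    | top => intro _; exact le_top
    | step H L hHL hL hn ih =>
      intro hAH
      have h1 := ih (hAH.trans hHL)
      rw [← hW, commutator_le]
      intro w hw a ha
      have h2 : w * a * w⁻¹ ∈ H :=
        mem_subgroupOf.1 (hn.conj_mem ⟨a, hHL (hAH ha)⟩ (mem_subgroupOf.2 (hAH ha)) ⟨w, h1 hw⟩)
      rw [commutatorElement_def]
      exact H.mul_mem h2 (H.inv_mem (hAH ha))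
  exact key S hS hA

variable {G : Type u} [Group G]

section

variable {K : Subgroup G} {t q : G} {z : K} {P R : Subgroup K}

/-- the subgroups of `X = C_G(z)` -/
abbrev toX (z : K) (L : Subgroup K) : Subgroup ↥(centralizer ({(z : G)} : Set G)) :=
  (L.map K.subtype).subgroupOf (centralizer ({(z : G)} : Set G))

theorem mem_toX {L : Subgroup K} {x : ↥(centralizer ({(z : G)} : Set G))} :
    x ∈ toX z L ↔ (x : G) ∈ L.map K.subtype := mem_subgroupOf

theorem map_le_cent {L : Subgroup K} (hL : ∀ x ∈ L, x * z = z * x) :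
    L.map K.subtype ≤ centralizer ({(z : G)} : Set G) := by
  rintro _ ⟨x, hx, rfl⟩
  exact mem_centralizer_singleton_iff.2 (congrArg Subtype.val (hL x hx))

theorem map_toX {L : Subgroup K} (hL : ∀ x ∈ L, x * z = z * x) :
    (toX z L).map (centralizer ({(z : G)} : Set G)).subtype = L.map K.subtype := by
  rw [subgroupOf_map_subtype, inf_of_le_left (map_le_cent hL)]

/-- `N` normalises `R` -/
theorem conj_R (h : Emb K t q z P) (sh : SheetE z P R) {g : G} (hg : g * t = t * g)
    (hgz : g * z = z * g) {x : G} (hx : x ∈ R.map K.subtype) : g * x * g⁻¹ ∈ R.map K.subtype := by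
  obtain ⟨hxK, hxP⟩ := Emb.mem_map.1 hx
  have h1 := map_R sh (K.normalizerMonoidHom ⟨g, h.nor hg⟩) (h.aut_z hg hgz) hxP
  refine Emb.mem_map.2 ⟨?_, ?_⟩
  · exact (mem_normalizer_iff.1 (h.nor hg) x).1 hxK
  · convert h1 using 1
    exact Subtype.ext (nmh_apply (h.nor hg) ⟨x, hxK⟩).symm

/-- an element of odd order of `C(t) ∩ C(z)` which centralises `R` is trivial -/
theorem odd_eq_one [Finite G] (h : Emb K t q z P) (sh : SheetE z P R) (m : SheetM P R) {y : G}
    (hyt : y * t = t * y) (hyz : y * z = z * y) (hodd : Odd (orderOf y))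
    (hyR : ∀ r ∈ R.map K.subtype, y * r = r * y) : y = 1 := by
  -- `y` centralises `P`
  have hyP : ∀ p ∈ P.map K.subtype, y * p = p * y := by
    rintro _ ⟨p, hp, rfl⟩
    set α : MulAut K := K.normalizerMonoidHom ⟨y, h.nor hyt⟩ with hα
    have hαz : α z = z := h.aut_z hyt hyz
    have hαR : ∀ r ∈ R, α r = r := by
      intro r hr
      apply Subtype.ext
      rw [hα, nmh_apply, hyR r ⟨r, hr, rfl⟩, mul_inv_cancel_right]
    have hαP : ∀ p ∈ P, α p ∈ P := fun p hp => map_P sh.perf sh.cen sh.der α hαz hp
    set r : K := p⁻¹ * α p with hr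
    have hrR : r ∈ R := by
      apply sh.cR _ (P.mul_mem (P.inv_mem hp) (hαP p hp))
      intro s hs
      have h1 : α p * s * (α p)⁻¹ = p * s * p⁻¹ := by
        have h2 : α (p * s * p⁻¹) = p * s * p⁻¹ := hαR _ (sh.Rn p hp s hs)
        rw [map_mul, map_mul, map_inv, hαR s hs] at h2
        exact h2
      calc p⁻¹ * α p * s = p⁻¹ * (α p * s * (α p)⁻¹) * α p := by group
        _ = p⁻¹ * (p * s * p⁻¹) * α p := by rw [h1]
        _ = s * (p⁻¹ * α p) := by group
    -- iterate
    have hit : ∀ n : ℕ, (α ^ n) p = p * r ^ n := by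
      intro n
      induction n with
      | zero => simp
      | succ n ih =>
        rw [pow_succ', MulAut.mul_apply, ih, map_mul, map_pow, hαR r hrR]
        have : α p = p * r := by rw [hr]; group
        rw [this, pow_succ']; group
    have hord : orderOf α ∣ orderOf y := by
      have h1 : orderOf (⟨y, h.nor hyt⟩ : normalizer (K : Set G)) = orderOf y :=
        Subgroup.orderOf_mk y _
      rw [← h1]
      exact orderOf_map_dvd _ _
    have h2 := hit (orderOf α)
    rw [pow_orderOf_eq_one] at h2
    have h3 : r ^ (orderOf α) = 1 := by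
      have : p = p * r ^ orderOf α := h2
      exact (mul_eq_left.1 this.symm)
    obtain ⟨k, hk⟩ := sh.R2 ⟨r, hrR⟩
    have h4 : r ^ (2 ^ k) = 1 := congrArg Subtype.val hk
    have h5 : r = 1 := by
      have h6 : orderOf r ∣ 2 ^ k := orderOf_dvd_of_pow_eq_one h4
      have h7 : orderOf r ∣ orderOf y := (orderOf_dvd_of_pow_eq_one h3).trans hord
      have h8 : (2 ^ k).Coprime (orderOf y) := Nat.Coprime.pow_left k ((Nat.coprime_two_left).2 hodd)
      have h9 : orderOf r = 1 := Nat.eq_one_of_dvd_coprimes h8 h6 h7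
      exact orderOf_eq_one_iff.1 h9
    have h6 : α p = p := by
      have : α p = p * r := by rw [hr]; group
      rw [this, h5, mul_one]
    have h7 := congrArg Subtype.val h6
    rw [hα, nmh_apply, mul_inv_eq_iff_eq_mul] at h7
    exact h7
  -- the automorphism of `K` is trivial
  have h1 : K.normalizerMonoidHom ⟨y, h.nor hyt⟩ = 1 := by
    apply m.odd
    · have h2 : orderOf (⟨y, h.nor hyt⟩ : normalizer (K : Set G)) = orderOf y := Subgroup.orderOf_mk y _
      have h3 : orderOf (K.normalizerMonoidHom ⟨y, h.nor hyt⟩) ∣ orderOf y := by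
        rw [← h2]
        exact orderOf_map_dvd _ _
      exact hodd.of_dvd_nat h3
    · intro x hx
      apply Subtype.ext
      rw [nmh_apply, hyP x ⟨x, hx, rfl⟩, mul_inv_cancel_right]
  have h2 : y ∈ zpowers q := by
    apply h.st.cK y hyt
    intro x hx
    have h3 := congrArg (fun f : MulAut K => ((f ⟨x, hx⟩ : K) : G)) h1
    simp only [nmh_apply (h.nor hyt), MulAut.one_apply] at h3
    rw [mul_inv_eq_iff_eq_mul] at h3
    exact h3.symm
  -- a 2-element of odd order
  obtain ⟨k, hk⟩ := h.st.pQ ⟨y, h2⟩
  have h4 : y ^ (2 ^ k) = 1 := congrArg Subtype.val hk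
  have h6 : orderOf y ∣ 2 ^ k := orderOf_dvd_of_pow_eq_one h4
  have h8 : (2 ^ k).Coprime (orderOf y) := Nat.Coprime.pow_left k ((Nat.coprime_two_left).2 hodd)
  exact orderOf_eq_one_iff.1 (Nat.eq_one_of_dvd_coprimes h8 h6 dvd_rfl)

theorem res' [Finite G] (h : Emb K t q z P) (sh : SheetE z P R)
    {S : Subgroup ↥(centralizer ({(z : G)} : Set G))} (hSt : ∀ x ∈ S, (x : G) * t = t * x)
    (hp : ⁅S, S⁆ = S) : S ≤ toX z P := by
  obtain ⟨n, hn⟩ := h.dser_eq
  have h1 : S.map (centralizer ({(z : G)} : Set G)).subtype ≤ centralizer ({t} : Set G) ⊓ centralizer ({(z : G)} : Set G) := by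
    rintro _ ⟨x, hx, rfl⟩
    exact ⟨mem_centralizer_singleton_iff.2 (hSt x hx), x.2⟩
  have h2 := TR.dser_mono n h1
  have hp' : ⁅S.map (centralizer ({(z : G)} : Set G)).subtype, S.map (centralizer ({(z : G)} : Set G)).subtype⁆ =
      S.map (centralizer ({(z : G)} : Set G)).subtype := by rw [← map_commutator, hp]
  rw [TR.dser_of_perfect n hp', hn] at h2
  intro x hx
  exact h2 ⟨x, hx, rfl⟩

/-- `P ≅ P'` -/
noncomputable def eP (z : K) (P : Subgroup K) (hPz : ∀ x ∈ P, x * z = z * x) : P ≃* toX z P :=
  (P.equivMapOfInjective K.subtype K.subtype_injective).trans (subgroupOfEquivOfLe (map_le_cent hPz)).symm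

theorem eP_coe (hPz : ∀ x ∈ P, x * z = z * x) (x : P) : (((eP z P hPz x : toX z P) :
    ↥(centralizer ({(z : G)} : Set G))) : G) = ((x : K) : G) := rfl

theorem core' [Finite G] (sh : SheetE z P R) (m : SheetM P R)
    (hz : (⟨z, mem_centralizer_singleton_iff.2 rfl⟩ : ↥(centralizer ({(z : G)} : Set G))) ∈ toX z P) :
    Core (⟨_, hz⟩ : toX z P) ((toX z R).subgroupOf (toX z P)) := by
  refine (m.core sh).of_equiv (eP z P sh.cen) ?_ ?_
  · exact Subtype.ext (Subtype.ext rfl)
  · ext x
    rw [mem_subgroupOf, mem_toX, Emb.mem_map]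
    constructor
    · rintro ⟨y, hy, rfl⟩
      exact ⟨(y : K).2, mem_subgroupOf.1 hy⟩
    · rintro ⟨h1, h2⟩
      refine ⟨⟨⟨_, h1⟩, sh.RP h2⟩, mem_subgroupOf.2 h2, ?_⟩
      exact Subtype.ext (Subtype.ext rfl)

/-- the hypotheses of `CaseM.Hyp` -/
theorem hyp [Finite G] (o : Out K t q z P) (sh : SheetE z P R) (m : SheetM P R) :
    Hyp (X := ↥(centralizer ({(z : G)} : Set G)))
      ⟨z, mem_centralizer_singleton_iff.2 rfl⟩ ⟨t, mem_centralizer_singleton_iff.2 o.emb.comm⟩
      (toX z R) (toX z P) := by
  have h := o.emb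
  have : Fact (Nat.Prime 2) := ⟨Nat.prime_two⟩
  set H : Subgroup G := centralizer ({(z : G)} : Set G) with hH
  have hmemH : ∀ x, x ∈ H ↔ x * z = z * x := fun x => mem_centralizer_singleton_iff
  have hPz : ∀ x ∈ P, x * z = z * x := sh.cen
  have hRz : ∀ x ∈ R, x * z = z * x := fun x hx => sh.cen x (sh.RP hx)
  have hPt : ∀ x ∈ P.map K.subtype, x * t = t * x := by
    rintro _ ⟨x, -, rfl⟩
    exact h.st.Kt x x.2
  have hinj : Function.Injective (Subgroup.map H.subtype) := map_injective H.subtype_injective
  have hmP : (toX z P).map H.subtype = P.map K.subtype := map_toX hPz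
  have hmR : (toX z R).map H.subtype = R.map K.subtype := map_toX hRz
  set t' : H := ⟨t, mem_centralizer_singleton_iff.2 o.emb.comm⟩ with ht'
  set z' : H := ⟨z, mem_centralizer_singleton_iff.2 rfl⟩ with hz'
  have hzc : ∀ x : H, x * z' = z' * x := fun x => Subtype.ext ((hmemH x).1 x.2)
  have hct : ∀ x : H, x * t' = t' * x ↔ (x : G) * t = t * x := fun x =>
    ⟨fun e => congrArg Subtype.val e, fun e => Subtype.ext e⟩
  have hz2 : (z : G) * z = 1 := h.zz
  -- `t` does not lie in `K`
  have htz : t' ≠ z' := by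
    intro e
    apply h.tK
    have : t = z := congrArg Subtype.val e
    rw [this]; exact z.2
  have hR2 : IsPGroup 2 (toX z R) := by
    have h1 : IsPGroup 2 (R.map K.subtype) := sh.R2.map _
    exact h1.comap_of_injective H.subtype H.subtype_injective
  have hRn : ∀ x : H, x * t' = t' * x → ∀ r ∈ toX z R, x * r * x⁻¹ ∈ toX z R := by
    intro x hx r hr
    exact conj_R h sh ((hct x).1 hx) ((hmemH x).1 x.2) hr
  -- elements of `C(t)` trivial on `R`
  have hcR : ∀ x : H, x * t' = t' * x → (∀ r ∈ toX z R, x * r = r * x) →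
      x = 1 ∨ x = z' ∨ x = t' ∨ x = t' * z' := by
    intro x hx hxR
    have hxt := (hct x).1 hx
    have hxz := (hmemH x).1 x.2
    have hxR' : ∀ r ∈ R.map K.subtype, (x : G) * r = r * x := by
      intro r hr
      have hrH : r ∈ H := map_le_cent hRz hr
      exact congrArg Subtype.val (hxR ⟨r, hrH⟩ hr)
    -- `x` is a 2-element
    obtain ⟨k, l, hl, hkl⟩ := Nat.exists_eq_two_pow_mul_odd (orderOf_pos (x : G)).ne'
    have h1 : (x : G) ^ (2 ^ k) = 1 := by
      apply odd_eq_one h sh m
      · exact ((show Commute (x : G) t from hxt).pow_left _).eq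
      · exact ((show Commute (x : G) z from hxz).pow_left _).eq
      · rw [orderOf_pow, hkl, Nat.gcd_mul_right_left, Nat.mul_div_cancel_left _ (pow_pos two_pos k)]
        exact hl
      · intro r hr
        exact ((show Commute (x : G) r from hxR' r hr).pow_left _).eq
    have hx2 : IsPGroup 2 (zpowers (x : G)) := by
      obtain ⟨j, -, hj⟩ := (Nat.dvd_prime_pow Nat.prime_two).1 (orderOf_dvd_of_pow_eq_one h1)
      exact IsPGroup.of_card (by rw [Nat.card_zpowers, hj])
    have hE : EmbE K t q z P R := ⟨h.st, sh⟩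
    obtain ⟨r, hr, hrx⟩ := hE.mem_of_trivial hx2 hxt hxz (by
      -- `p⁻¹ (x p x⁻¹)` centralises `R`
      rintro _ ⟨p, hp, rfl⟩
      have h2 : (x : G) * p * (x : G)⁻¹ ∈ P.map K.subtype := h.conj_P hxt hxz ⟨p, hp, rfl⟩
      obtain ⟨p', hp', hpp⟩ := h2
      have hpp' : (p' : G) = (x : G) * p * (x : G)⁻¹ := hpp
      refine ⟨p⁻¹ * p', ?_, ?_⟩
      · apply sh.cR _ (P.mul_mem (P.inv_mem hp) hp')
        intro s hs
        apply Subtype.ext
        have h3 : (x : G) * (p * s * (p : G)⁻¹) = (p * s * (p : G)⁻¹) * x :=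
          hxR' _ ⟨p * s * p⁻¹, sh.Rn p hp s hs, rfl⟩
        have h4 : (x : G)⁻¹ * s * x = s := by
          rw [mul_assoc, ← hxR' s ⟨s, hs, rfl⟩]; group
        change (p : G)⁻¹ * p' * s = s * ((p : G)⁻¹ * p')
        rw [hpp']
        calc (p : G)⁻¹ * (x * p * (x : G)⁻¹) * s
            = (p : G)⁻¹ * (x * p * ((x : G)⁻¹ * s * x) * (x : G)⁻¹) := by group
          _ = (p : G)⁻¹ * ((x * (p * s * (p : G)⁻¹)) * p * (x : G)⁻¹) := by rw [h4]; group
          _ = (p : G)⁻¹ * (((p * s * (p : G)⁻¹) * x) * p * (x : G)⁻¹) := by rw [h3]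
          _ = s * ((p : G)⁻¹ * (x * p * (x : G)⁻¹)) := by group
      · change (p : G)⁻¹ * p' = (p : G)⁻¹ * (x * p * (x : G)⁻¹)
        rw [hpp'])
    -- `r` centralises `R`
    have hrr : r = 1 ∨ r = z := by
      obtain ⟨r', hr', rfl⟩ := hr
      have h5 : ∀ s ∈ R, r' * s = s * r' := by
        intro s hs
        apply Subtype.ext
        change (r' : G) * s = s * r'
        have h6 : (K.subtype r')⁻¹ * (x : G) = 1 ∨ (K.subtype r')⁻¹ * (x : G) = t := o.Q2 _ hrx
        have h7 : Commute ((r' : G)⁻¹ * x) s := by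
          rcases h6 with e | e
          · have : (r' : G)⁻¹ * x = 1 := e
            rw [this]; exact Commute.one_left _
          · have : (r' : G)⁻¹ * x = t := e
            rw [this]; exact (h.st.Kt s s.2).symm
        have h8 : Commute (x : G) s := hxR' s ⟨s, hs, rfl⟩
        have h9 : Commute ((x : G) * ((r' : G)⁻¹ * x)⁻¹) s := h8.mul_left h7.inv_left
        have e : (x : G) * ((r' : G)⁻¹ * x)⁻¹ = r' := by group
        rw [e] at h9
        exact h9.eq
      obtain ⟨a, ha, b, hb, hab⟩ := sh.Rna
      rcases sh.Rmin (R ⊓ centralizer (R : Set K)) inf_le_left (by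
          intro y hy b hb
          refine mem_inf.2 ⟨sh.Rn y hy b hb.1, mem_centralizer_iff.2 ?_⟩
          intro s hs
          have h10 := mem_centralizer_iff.1 hb.2 (y⁻¹ * s * y) (by
            have := sh.Rn y⁻¹ (P.inv_mem hy) s hs
            rwa [inv_inv] at this)
          calc s * (y * b * y⁻¹) = y * ((y⁻¹ * s * y) * b) * y⁻¹ := by group
            _ = y * (b * (y⁻¹ * s * y)) * y⁻¹ := by rw [h10]
            _ = y * b * y⁻¹ * s := by group) with h11 | h11
      · rcases h11 r' ⟨hr', mem_centralizer_iff.2 fun s hs => (h5 s hs).symm⟩ with e | e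
        · exact Or.inl (congrArg Subtype.val e)
        · exact Or.inr (congrArg Subtype.val e)
      · exfalso
        have h12 : b ∈ R ⊓ centralizer (R : Set K) := by rw [h11]; exact hb
        exact hab (mem_centralizer_iff.1 h12.2 a ha)
    rcases hrr with e | e <;> rcases o.Q2 _ hrx with e' | e'
    · left
      apply Subtype.ext
      rw [e, inv_one, one_mul] at e'
      exact e'
    · right; right; left
      apply Subtype.ext
      rw [e, inv_one, one_mul] at e'
      exact e'
    · right; left
      apply Subtype.ext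
      rw [e, inv_mul_eq_one] at e'
      exact e'.symm
    · right; right; right
      apply Subtype.ext
      rw [e, inv_mul_eq_iff_eq_mul] at e'
      change (x : G) = t * z
      rw [e', h.comm]
  have hRP' : toX z R ≤ toX z P := fun x hx => (map_mono sh.RP) hx
  exact
    { zc := hzc
      zz := Subtype.ext hz2
      z1 := fun e => h.z1 (congrArg Subtype.val e)
      tt := Subtype.ext h.st.tt
      t1 := fun e => h.st.t1 (congrArg Subtype.val e)
      tz := htz
      RP := hRP'
      Pt := fun x hx => Subtype.ext (hPt x hx)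
      Pperf := by
        apply hinj
        rw [map_commutator, hmP, ← map_commutator, sh.perf]
      Pn := fun x hx p hp => h.conj_P ((hct x).1 hx) ((hmemH x).1 x.2) hp
      Rn := hRn
      R2 := hR2
      zR := by
        have h1 : (z : G) ∈ (⁅toX z R, toX z R⁆).map H.subtype := by
          rw [map_commutator, hmR, ← map_commutator]
          exact ⟨z, z_mem_comm sh, rfl⟩
        obtain ⟨x, hx, hxz⟩ := h1
        have : x = z' := Subtype.ext hxz
        rwa [← this]
      cR := hcR
      res := by
        intro S hSt hp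
        exact res' h sh (fun x hx => (hct x).1 (mem_centralizer_singleton_iff.1 (hSt hx))) hp
      big := by
        intro S hSt hS hp hne
        have hSP : S ≤ toX z P :=
          res' h sh (fun x hx => (hct x).1 (mem_centralizer_singleton_iff.1 (hSt hx))) hp
        have hPt' : toX z P ≤ centralizer ({t'} : Set H) := fun x hx =>
          mem_centralizer_singleton_iff.2 (Subtype.ext (hPt x hx))
        have hRt' : toX z R ≤ centralizer ({t'} : Set H) := hRP'.trans hPt'
        have h1 : (S.subgroupOf (toX z P)).IsSubnormal := by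
          have : S.subgroupOf (toX z P) = (S.subgroupOf (centralizer ({t'} : Set H))).comap (inclusion hPt') := by
            ext x; rfl
          rw [this]
          exact hS.comap _
        have hSm : (S.subgroupOf (toX z P)).map (toX z P).subtype = S := by
          rw [subgroupOf_map_subtype, inf_of_le_left hSP]
        have hRm : ((toX z R).subgroupOf (toX z P)).map (toX z P).subtype = toX z R := by
          rw [subgroupOf_map_subtype, inf_of_le_left hRP']
        have h2 : ⁅S.subgroupOf (toX z P), S.subgroupOf (toX z P)⁆ = S.subgroupOf (toX z P) := by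
          apply map_injective (toX z P).subtype_injective
          rw [map_commutator, hSm, hp]
        have h3 : S.subgroupOf (toX z P) ≠ ⊥ := by
          intro h0
          apply hne
          rw [← hSm, h0, Subgroup.map_bot]
        have h4 := (core' sh m ⟨z, sh.zP, rfl⟩).big _ h1 h2 h3
        have h5 : ⁅toX z R, S⁆ = toX z R := by
          have := congrArg (Subgroup.map (toX z P).subtype) h4
          rwa [map_commutator, hSm, hRm] at this
        -- along the subnormal chain
        have hSm' : (S.subgroupOf (centralizer ({t'} : Set H))).map (centralizer ({t'} : Set H)).subtype = S := by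
          rw [subgroupOf_map_subtype, inf_of_le_left hSt]
        have hRm' : ((toX z R).subgroupOf (centralizer ({t'} : Set H))).map
            (centralizer ({t'} : Set H)).subtype = toX z R := by
          rw [subgroupOf_map_subtype, inf_of_le_left hRt']
        have h6 : ⁅(toX z R).subgroupOf (centralizer ({t'} : Set H)), S.subgroupOf (centralizer ({t'} : Set H))⁆ =
            (toX z R).subgroupOf (centralizer ({t'} : Set H)) := by
          apply map_injective (centralizer ({t'} : Set H)).subtype_injective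
          rw [map_commutator, hSm', hRm', h5]
        have h7 := le_of_subnormal h6 le_rfl hS
        have h8 := map_mono (f := (centralizer ({t'} : Set H)).subtype) h7
        rwa [hSm', hRm'] at h8
      rad := by
        intro S hSt hS
        by_cases hcon : ∃ s ∈ S, ∃ r ∈ toX z R, r ≠ 1 ∧ r ≠ z' ∧ (s = r ∨ s = t' * r)
        · exact Or.inr hcon
        left
        push Not at hcon
        have hPt' : toX z P ≤ centralizer ({t'} : Set H) := fun x hx =>
          mem_centralizer_singleton_iff.2 (Subtype.ext (hPt x hx))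
        have hRt' : toX z R ≤ centralizer ({t'} : Set H) := hRP'.trans hPt'
        have hSc : ∀ s ∈ S, s * t' = t' * s := fun s hs => mem_centralizer_singleton_iff.1 (hSt hs)
        -- elements of odd order
        have hodd : ∀ s ∈ S, Odd (orderOf (s : G)) → (s : G) = 1 := by
          intro s hs ho
          have hst := hSc s hs
          have hAC : zpowers s ≤ centralizer ({t'} : Set H) := zpowers_le.2 (hSt hs)
          have hAS : zpowers s ≤ S := zpowers_le.2 hs
          have hAn : zpowers s ≤ normalizer ((toX z R : Subgroup H) : Set H) := by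
            intro a ha
            rw [mem_normalizer_iff]
            have hac := mem_centralizer_singleton_iff.1 (hAC ha)
            intro r
            constructor
            · exact fun hr => hRn a hac r hr
            · intro hr
              have hac' : a⁻¹ * t' = t' * a⁻¹ := mem_centralizer_singleton_iff.1 (inv_mem (hAC ha))
              have := hRn a⁻¹ hac' _ hr
              have e : a⁻¹ * (a * r * a⁻¹) * a⁻¹⁻¹ = r := by group
              rwa [e] at this
          have hos : orderOf s = orderOf (s : G) := (Subgroup.orderOf_coe s).symm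
          have hcop : (Nat.card (zpowers s)).Coprime (Nat.card (toX z R)) := by
            obtain ⟨n, hn⟩ := IsPGroup.iff_card.1 hR2
            rw [hn, Nat.card_zpowers, hos]
            exact Nat.Coprime.pow_right n ((Nat.coprime_two_right).2 ho)
          have hW := Cfsg.Agent.Lib.CoprimeCommutator.commutator_commutator_eq (zpowers s) (toX z R) hAn hcop
          have hWR : ⁅toX z R, zpowers s⁆ ≤ toX z R :=
            Cfsg.Agent.Lib.CoprimeCommutator.commutator_le_left hAn
          have hWt : ⁅toX z R, zpowers s⁆ ≤ centralizer ({t'} : Set H) := hWR.trans hRt'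
          -- `W ≤ S`
          have hWS : ⁅toX z R, zpowers s⁆ ≤ S := by
            have hCinj := map_injective (centralizer ({t'} : Set H)).subtype_injective
            have h1 : ∀ L : Subgroup H, L ≤ centralizer ({t'} : Set H) →
                (L.subgroupOf (centralizer ({t'} : Set H))).map (centralizer ({t'} : Set H)).subtype = L := by
              intro L hL
              rw [subgroupOf_map_subtype, inf_of_le_left hL]
            have h6 : ⁅(⁅toX z R, zpowers s⁆).subgroupOf (centralizer ({t'} : Set H)),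
                (zpowers s).subgroupOf (centralizer ({t'} : Set H))⁆ =
                (⁅toX z R, zpowers s⁆).subgroupOf (centralizer ({t'} : Set H)) := by
              apply hCinj
              rw [map_commutator, h1 _ hWt, h1 _ hAC, hW]
            have h7 := le_of_subnormal h6 (A := (zpowers s).subgroupOf (centralizer ({t'} : Set H)))
              (fun x hx => mem_subgroupOf.2 (hAS (mem_subgroupOf.1 hx))) hS
            have h8 := map_mono (f := (centralizer ({t'} : Set H)).subtype) h7
            rwa [h1 _ hWt, h1 _ hSt] at h8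
          have hWz : ∀ w ∈ ⁅toX z R, zpowers s⁆, w = 1 ∨ w = z' := by
            intro w hw
            by_contra hne
            push Not at hne
            exact (hcon w (hWS hw) w (hWR hw) hne.1 hne.2).1 rfl
          have hW1 : ⁅toX z R, zpowers s⁆ = ⊥ := by
            rw [← hW, commutator_eq_bot_iff_le_centralizer]
            intro w hw
            rw [mem_centralizer_iff]
            intro a _
            rcases hWz w hw with e | e
            · rw [e, mul_one, one_mul]
            · rw [e]; exact hzc a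
          rw [commutator_eq_bot_iff_le_centralizer] at hW1
          apply odd_eq_one h sh m ((hct s).1 hst) ((hmemH s).1 s.2) ho
          intro r hr
          have hrH : r ∈ H := map_le_cent hRz hr
          have hr' : (⟨r, hrH⟩ : H) ∈ toX z R := hr
          exact congrArg Subtype.val (mem_centralizer_iff.1 (hW1 hr') s (mem_zpowers s))
        -- `S` is a 2-group
        have hS2 : IsPGroup 2 S := by
          intro s
          obtain ⟨k, l, hl, hkl⟩ := Nat.exists_eq_two_pow_mul_odd (orderOf_pos ((s : H) : G)).ne'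
          refine ⟨k, Subtype.ext (Subtype.ext ?_)⟩
          apply hodd ((s : H) ^ (2 ^ k)) (pow_mem s.2 _)
          rw [SubmonoidClass.coe_pow, orderOf_pow, hkl, Nat.gcd_mul_right_left,
            Nat.mul_div_cancel_left _ (pow_pos two_pos k)]
          exact hl
        -- `O_2(C(t))`
        have hSO : S.subgroupOf (centralizer ({t'} : Set H)) ≤ pCore 2 ↥(centralizer ({t'} : Set H)) :=
          Cfsg.Agent.SignalizersComponents.CompBasic.subnormal_pGroup_le_pCore hS hS2.comap_subtype
        have hOn : (pCore 2 ↥(centralizer ({t'} : Set H))).Normal := Cfsg.Agent.Lib.Cores.pCore_normal 2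
        have hO2 : IsPGroup 2 (pCore 2 ↥(centralizer ({t'} : Set H))) := Cfsg.Agent.Lib.Cores.pCore_isPGroup 2
        -- the intersection with `P`
        set B : Subgroup K := ((((pCore 2 ↥(centralizer ({t'} : Set H))).map
          (centralizer ({t'} : Set H)).subtype).map H.subtype).subgroupOf K) ⊓ P with hB
        have hmemB : ∀ x : K, x ∈ B ↔ x ∈ P ∧ ∃ y : ↥(centralizer ({t'} : Set H)),
            y ∈ pCore 2 ↥(centralizer ({t'} : Set H)) ∧ ((y : H) : G) = x := by
          intro x
          rw [hB, mem_inf, mem_subgroupOf]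
          constructor
          · rintro ⟨⟨_, ⟨y, hy, rfl⟩, e⟩, hx⟩
            exact ⟨hx, y, hy, e⟩
          · rintro ⟨hx, y, hy, e⟩
            exact ⟨⟨_, ⟨y, hy, rfl⟩, e⟩, hx⟩
        have hBR : B ≤ R := by
          apply sh.Rmax _ inf_le_right
          · have h1 : IsPGroup 2 (((pCore 2 ↥(centralizer ({t'} : Set H))).map
              (centralizer ({t'} : Set H)).subtype).map H.subtype) := (hO2.map _).map _
            exact (h1.comap_of_injective K.subtype K.subtype_injective).to_le inf_le_left
          · intro x hx b hb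
            obtain ⟨hbP, y, hy, e⟩ := (hmemB b).1 hb
            have hxH : (x : G) ∈ H := (hmemH x).2 (congrArg Subtype.val (sh.cen x hx))
            have hxt : (⟨x, hxH⟩ : H) ∈ centralizer ({t'} : Set H) :=
              mem_centralizer_singleton_iff.2 (Subtype.ext (h.st.Kt x x.2))
            refine (hmemB _).2 ⟨P.mul_mem (P.mul_mem hx hbP) (P.inv_mem hx), ⟨⟨x, hxH⟩, hxt⟩ * y *
              ⟨⟨x, hxH⟩, hxt⟩⁻¹, hOn.conj_mem y hy _, ?_⟩
            change (x : G) * ((y : H) : G) * (x : G)⁻¹ = x * b * (x : G)⁻¹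
            rw [e]
        intro s hs
        have hst := hSc s hs
        have hsO : (⟨s, hSt hs⟩ : ↥(centralizer ({t'} : Set H))) ∈ pCore 2 ↥(centralizer ({t'} : Set H)) :=
          hSO (mem_subgroupOf.2 hs)
        have hs2 : IsPGroup 2 (zpowers (s : G)) := by
          obtain ⟨k, hk⟩ := hS2 ⟨s, hs⟩
          have h1 : (s : G) ^ (2 ^ k) = 1 := by
            have := congrArg (fun x : S => ((x : H) : G)) hk
            simpa using this
          obtain ⟨j, -, hj⟩ := (Nat.dvd_prime_pow Nat.prime_two).1 (orderOf_dvd_of_pow_eq_one h1)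
          exact IsPGroup.of_card (by rw [Nat.card_zpowers, hj])
        have hE : EmbE K t q z P R := ⟨h.st, sh⟩
        obtain ⟨r, hr, hrs⟩ := hE.mem_of_trivial hs2 ((hct s).1 hst) ((hmemH s).1 s.2) (by
          rintro _ ⟨p, hp, rfl⟩
          have hpH : (p : G) ∈ H := (hmemH p).2 (congrArg Subtype.val (sh.cen p hp))
          have hpt : (⟨p, hpH⟩ : H) ∈ centralizer ({t'} : Set H) :=
            mem_centralizer_singleton_iff.2 (Subtype.ext (h.st.Kt p p.2))
          have h2 : (s : G) * p * (s : G)⁻¹ ∈ P.map K.subtype :=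
            h.conj_P ((hct s).1 hst) ((hmemH s).1 s.2) ⟨p, hp, rfl⟩
          obtain ⟨p', hp', hpp⟩ := h2
          have hpp' : (p' : G) = (s : G) * p * (s : G)⁻¹ := hpp
          refine ⟨p⁻¹ * p', hBR ((hmemB _).2 ⟨P.mul_mem (P.inv_mem hp) hp', ?_⟩), ?_⟩
          · refine ⟨(⟨⟨p, hpH⟩, hpt⟩⁻¹ * ⟨s, hSt hs⟩ * ⟨⟨p, hpH⟩, hpt⟩) * ⟨s, hSt hs⟩⁻¹, ?_, ?_⟩
            · refine mul_mem ?_ (inv_mem hsO)
              have := hOn.conj_mem _ hsO (⟨⟨p, hpH⟩, hpt⟩⁻¹)
              rwa [inv_inv] at this
            · change (p : G)⁻¹ * s * p * (s : G)⁻¹ = (p : G)⁻¹ * p'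
              rw [hpp']; group
          · change (p : G)⁻¹ * p' = (p : G)⁻¹ * (s * p * (s : G)⁻¹)
            rw [hpp'])
        -- the end
        have hrH : r ∈ H := map_le_cent hRz hr
        have hr' : (⟨r, hrH⟩ : H) ∈ toX z R := hr
        rcases o.Q2 _ hrs with e | e
        · have e1 : s = ⟨r, hrH⟩ := Subtype.ext (inv_mul_eq_one.1 e).symm
          by_cases hr1 : (⟨r, hrH⟩ : H) = 1
          · left; rw [e1, hr1]
          by_cases hrz : (⟨r, hrH⟩ : H) = z'
          · right; left; rw [e1, hrz]
          · exact absurd e1 (hcon s hs _ hr' hr1 hrz).1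
        · have e1 : s = t' * ⟨r, hrH⟩ := by
            apply Subtype.ext
            change (s : G) = t * r
            rw [inv_mul_eq_iff_eq_mul] at e
            rw [e]
            exact (hPt r (map_mono sh.RP hr))
          by_cases hr1 : (⟨r, hrH⟩ : H) = 1
          · right; right; left; rw [e1, hr1, mul_one]
          by_cases hrz : (⟨r, hrH⟩ : H) = z'
          · right; right; right; rw [e1, hrz]
          · exact absurd e1 (hcon s hs _ hr' hr1 hrz).2
      prim := by
        intro U hzU hUR hU
        have hUP : U ≤ toX z P := hUR.trans hRP'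
        have hUm : (U.subgroupOf (toX z P)).map (toX z P).subtype = U := by
          rw [subgroupOf_map_subtype, inf_of_le_left hUP]
        have hRm : ((toX z R).subgroupOf (toX z P)).map (toX z P).subtype = toX z R := by
          rw [subgroupOf_map_subtype, inf_of_le_left hRP']
        rcases (core' sh m ⟨z, sh.zP, rfl⟩).prim (U.subgroupOf (toX z P)) (mem_subgroupOf.2 hzU)
          (by
            intro x hx
            exact mem_subgroupOf.2 (hUR (mem_subgroupOf.1 hx))) (by
            intro p
            have h1 : (cj p (U.subgroupOf (toX z P))).map (toX z P).subtype = cj (p : H) U := by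
              rw [← cj_map, hUm]; rfl
            rcases hU p p.2 with h2 | h2
            · left
              apply map_injective (toX z P).subtype_injective
              rw [h1, hUm, h2]
            · right
              intro x hx y hy
              apply Subtype.ext
              apply h2 x (mem_subgroupOf.1 hx)
              rw [← h1]
              exact ⟨y, hy, rfl⟩) with h1 | h1
        · left
          intro u hu
          rcases h1 ⟨u, hUP hu⟩ (mem_subgroupOf.2 hu) with h2 | h2
          · left; exact congrArg Subtype.val h2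
          · right; exact congrArg Subtype.val h2
        · right
          rw [← hUm, h1, hRm] }

end

end Cfsg.Agent.OddHalf.CaseM

end

-- merged: Cfsg.Agent.OddHalf.Table.LemmaS
section

/-!
# TABLE-17: an involution acting on an intrinsic component as an inner automorphism

`a` an involution, `D` a component of `C(a)` containing `a`, `t` an involution commuting with `a` which induces a
nontrivial inner automorphism on `D`, `D₀` a set of elements commuting with `t` whose centralizer in `C(a) ∩ C(t)` is
contained in `⟨t, a⟩`, `D₀ ⊆ D`.  Then `t ∈ D` and `C_G(D) = ⟨a⟩`; in particular `D` is a standard subgroup of `G`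
with `|C_G(D)| = 2`.
-/

set_option autoImplicit false

namespace Cfsg.Agent.OddHalf.Table

open Subgroup Cfsg

universe u

variable {G : Type u} [Group G]

theorem mem_cent_one {a g : G} : g ∈ centralizer ({a} : Set G) ↔ g * a = a * g :=
  mem_centralizer_singleton_iff

theorem mem_cent_sub {D : Subgroup G} {g : G} : g ∈ centralizer (D : Set G) ↔ ∀ x ∈ D, g * x = x * g := by
  rw [mem_centralizer_iff]
  exact ⟨fun h x hx => (h x hx).symm, fun h x hx => (h x hx).symm⟩

/-- **LEMMA S**, group part. -/
theorem cent_eq {a t : G} {D : Subgroup G} {D₀ : Set G} (haD : a ∈ D)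
    (hDa : ∀ x ∈ D, x * a = a * x) (hD₀ : ∀ d ∈ D₀, d ∈ D)
    (hc : ∀ y, y * a = a * y → y * t = t * y → (∀ d ∈ D₀, y * d = d * y) → y = 1 ∨ y = t ∨ y = a ∨ y = t * a)
    (hinn : ∃ m ∈ D, ∀ x ∈ D, t * x * t⁻¹ = m * x * m⁻¹) (hnc : ∃ x ∈ D, t * x ≠ x * t) :
    t ∈ D ∧ ∀ y, (∀ x ∈ D, y * x = x * y) → y = 1 ∨ y = a := by
  obtain ⟨m, hm, hmx⟩ := hinn
  obtain ⟨x₀, hx₀, hne⟩ := hnc
  -- `y₀ = m⁻¹ t` centralizes `D`
  have hy₀ : ∀ x ∈ D, (m⁻¹ * t) * x = x * (m⁻¹ * t) := by
    intro x hx
    have h := hmx x hx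
    have h1 : t * x = m * x * m⁻¹ * t := by rw [← h]; group
    calc (m⁻¹ * t) * x = m⁻¹ * (t * x) := by group
      _ = m⁻¹ * (m * x * m⁻¹ * t) := by rw [h1]
      _ = x * (m⁻¹ * t) := by group
  -- elements centralizing `D` do not conjugate nontrivially; `t`, `t a` do not centralize `D`
  have hnt : ¬ ∀ x ∈ D, t * x = x * t := fun h => hne (h x₀ hx₀)
  have hnta : ¬ ∀ x ∈ D, (t * a) * x = x * (t * a) := by
    intro h
    apply hnt
    intro x hx
    have h1 := h x hx
    have h2 := hDa x hx
    have e : t * x * a = x * t * a := by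
      calc t * x * a = t * (x * a) := by group
        _ = t * (a * x) := by rw [h2]
        _ = (t * a) * x := by group
        _ = x * (t * a) := h1
        _ = x * t * a := by group
    exact mul_right_cancel e
  have htm : m⁻¹ * t * t = t * (m⁻¹ * t) := by
    -- `m⁻¹ t` commutes with `m`, hence with `t = m (m⁻¹ t)`
    have h1 := hy₀ m hm
    have h2 : t = m * (m⁻¹ * t) := by group
    calc m⁻¹ * t * t = (m⁻¹ * t) * (m * (m⁻¹ * t)) := by rw [← h2]
      _ = ((m⁻¹ * t) * m) * (m⁻¹ * t) := by group
      _ = (m * (m⁻¹ * t)) * (m⁻¹ * t) := by rw [h1]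
      _ = t * (m⁻¹ * t) := by rw [← h2]
  have hya : (m⁻¹ * t) * a = a * (m⁻¹ * t) := hy₀ a haD
  have htD : t ∈ D := by
    rcases hc (m⁻¹ * t) hya htm (fun d hd => hy₀ d (hD₀ d hd)) with h | h | h | h
    · rw [inv_mul_eq_one] at h
      rw [← h]; exact hm
    · exfalso
      exact hnt (by rw [← h]; exact hy₀)
    · have h1 : t = m * a := by rw [← h]; group
      rw [h1]
      exact mul_mem hm haD
    · exfalso
      exact hnta (by rw [← h]; exact hy₀)
  refine ⟨htD, fun y hy => ?_⟩
  rcases hc y (hy a haD) (hy t htD) (fun d hd => hy d (hD₀ d hd)) with h | h | h | h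
  · exact Or.inl h
  · exact absurd (by rw [← h]; exact hy) hnt
  · exact Or.inr h
  · exact absurd (by rw [← h]; exact hy) hnta

/-- **LEMMA S**: `D` is a standard subgroup with `C_G(D) = ⟨a⟩`, `N_G(D) = C_G(a)`, `t ∈ D`. -/
theorem lemmaS [Finite G] {a t : G} {D : Subgroup G} {D₀ : Set G} (ha : orderOf a = 2) (ht : t * t = 1)
    (hDa : D ≤ centralizer ({a} : Set G)) (hD : IsComponent (D.subgroupOf (centralizer ({a} : Set G))))
    (haD : a ∈ D) (hD₀ : ∀ d ∈ D₀, d ∈ D)
    (hc : ∀ y, y * a = a * y → y * t = t * y → (∀ d ∈ D₀, y * d = d * y) → y = 1 ∨ y = t ∨ y = a ∨ y = t * a)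
    (hinn : ∃ m ∈ D, ∀ x ∈ D, t * x * t⁻¹ = m * x * m⁻¹) (hnc : ∃ x ∈ D, t * x ≠ x * t) :
    t ∈ D ∧ centralizer (D : Set G) = zpowers a ∧ normalizer (D : Set G) = centralizer ({a} : Set G) ∧
      IsStandardSubgroup D := by
  have ha2 : a * a = 1 := by
    have h := pow_orderOf_eq_one a
    rwa [ha, pow_two] at h
  have ha1 : a ≠ 1 := by
    rintro rfl
    rw [orderOf_one] at ha
    exact absurd ha (by norm_num)
  have hDa' : ∀ x ∈ D, x * a = a * x := fun x hx => mem_cent_one.1 (hDa hx)
  obtain ⟨htD, hY⟩ := cent_eq haD hDa' hD₀ hc hinn hnc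
  have hcent : centralizer (D : Set G) = zpowers a := by
    apply le_antisymm
    · intro y hy
      rcases hY y (mem_cent_sub.1 hy) with h | h
      · rw [h]; exact one_mem _
      · rw [h]; exact mem_zpowers a
    · rw [zpowers_le]
      exact mem_cent_sub.2 fun x hx => (hDa' x hx).symm
  obtain ⟨x₀, hx₀, hne⟩ := hnc
  -- `D` is normal in `C(a)`
  have hnorm : centralizer ({a} : Set G) ≤ normalizer (D : Set G) := by
    intro g hg
    set H := centralizer ({a} : Set G) with hH
    have hcj := Cfsg.Agent.S1270.component_conj hD (⟨g, hg⟩ : H)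
    by_contra hgn
    have hne' : (D.subgroupOf H).map (MulAut.conj (⟨g, hg⟩ : H)).toMonoidHom ≠ D.subgroupOf H := by
      intro heq
      apply hgn
      rw [mem_normalizer_iff]
      intro x
      constructor
      · intro hx
        have h1 : (⟨g, hg⟩ : H) * ⟨x, hDa hx⟩ * (⟨g, hg⟩ : H)⁻¹ ∈ D.subgroupOf H := by
          rw [← heq]
          exact ⟨⟨x, hDa hx⟩, mem_subgroupOf.2 hx, rfl⟩
        exact mem_subgroupOf.1 h1
      · intro hx
        have h1 : (⟨g * x * g⁻¹, hDa hx⟩ : H) ∈ (D.subgroupOf H).map (MulAut.conj (⟨g, hg⟩ : H)).toMonoidHom := by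
          rw [heq]
          exact mem_subgroupOf.2 hx
        obtain ⟨y, hy, hyx⟩ := h1
        have h2 : g * (y : G) * g⁻¹ = g * x * g⁻¹ := congrArg Subtype.val hyx
        have h3 : (y : G) = x := by
          have := mul_right_cancel h2
          exact mul_left_cancel this
        rw [← h3]
        exact mem_subgroupOf.1 hy
    have hcomm := Cfsg.Agent.SignalizersComponents.Components.component_le_centralizer_of_ne hcj hD hne'
    -- the conjugate of `t` centralizes `D`
    have h1 : (⟨g, hg⟩ : H) * ⟨t, hDa htD⟩ * (⟨g, hg⟩ : H)⁻¹ ∈ centralizer ((D.subgroupOf H : Subgroup H) : Set H) :=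
      hcomm ⟨⟨t, hDa htD⟩, mem_subgroupOf.2 htD, rfl⟩
    have h2 : ∀ x ∈ D, (g * t * g⁻¹) * x = x * (g * t * g⁻¹) := by
      intro x hx
      have h3 := (mem_centralizer_iff.1 h1) ⟨x, hDa hx⟩ (mem_subgroupOf.2 hx)
      exact (congrArg Subtype.val h3).symm
    have h4 := hY _ h2
    have hga : g * a = a * g := mem_cent_one.1 hg
    have hnt1 : t ≠ 1 := by
      rintro rfl
      exact hne (by rw [one_mul, mul_one])
    have hta : t ≠ a := by
      rintro rfl
      exact hne (hDa' x₀ hx₀).symm
    rcases h4 with h4 | h4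
    · apply hnt1
      have : t = g⁻¹ * (g * t * g⁻¹) * g := by group
      rw [this, h4]; group
    · apply hta
      have e : t = g⁻¹ * (g * t * g⁻¹) * g := by group
      rw [e, h4, mul_assoc, ← hga]; group
  have hnorm2 : normalizer (D : Set G) ≤ centralizer ({a} : Set G) := by
    intro g hg
    rw [mem_cent_one]
    -- `g a g⁻¹` centralizes `D`
    have h1 : ∀ x ∈ D, (g * a * g⁻¹) * x = x * (g * a * g⁻¹) := by
      intro x hx
      have h2 : g⁻¹ * x * g ∈ D := by
        have h3 := (mem_normalizer_iff.1 (inv_mem hg) x).1 hx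
        rwa [inv_inv] at h3
      have h4 := hDa' _ h2
      calc (g * a * g⁻¹) * x = g * (a * (g⁻¹ * x * g)) * g⁻¹ := by group
        _ = g * ((g⁻¹ * x * g) * a) * g⁻¹ := by rw [h4]
        _ = x * (g * a * g⁻¹) := by group
    rcases hY _ h1 with h | h
    · exfalso
      apply ha1
      have : a = g⁻¹ * (g * a * g⁻¹) * g := by group
      rw [this, h]; group
    · rw [mul_inv_eq_iff_eq_mul] at h
      exact h
  refine ⟨htD, hcent, le_antisymm hnorm2 hnorm, ?_⟩
  refine Cfsg.Agent.S1306.result a ha D hDa hD ?_ ?_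
  · intro y hy hyD
    have h1 : y = a := by
      rcases hY y (mem_cent_sub.1 hyD) with h | h
      · exfalso
        rw [h, orderOf_one] at hy
        exact absurd hy (by norm_num)
      · exact h
    rw [h1]
    exact ⟨hDa, hD⟩
  · intro g hg hcomm
    apply hg
    have h1 : D.map (MulAut.conj g).toMonoidHom ≤ centralizer (D : Set G) := by
      rw [← commutator_eq_bot_iff_le_centralizer, commutator_comm]
      exact hcomm
    -- then `D` is abelian
    exfalso
    have h2 : g * t * g⁻¹ ∈ centralizer (D : Set G) := h1 ⟨t, htD, rfl⟩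
    have h3 : g * x₀ * g⁻¹ ∈ centralizer (D : Set G) := h1 ⟨x₀, hx₀, rfl⟩
    have h4 : (g * t * g⁻¹) * (g * x₀ * g⁻¹) = (g * x₀ * g⁻¹) * (g * t * g⁻¹) := by
      rw [hcent] at h2 h3
      exact (mem_zpowers_iff.1 h2).elim fun i hi => (mem_zpowers_iff.1 h3).elim fun j hj => by
        rw [← hi, ← hj, ← zpow_add, ← zpow_add, add_comm]
    apply hne
    have h5 : g * (t * x₀) * g⁻¹ = g * (x₀ * t) * g⁻¹ := by
      calc g * (t * x₀) * g⁻¹ = (g * t * g⁻¹) * (g * x₀ * g⁻¹) := by group
        _ = (g * x₀ * g⁻¹) * (g * t * g⁻¹) := h4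
        _ = g * (x₀ * t) * g⁻¹ := by group
    exact mul_left_cancel (mul_right_cancel h5)

end Cfsg.Agent.OddHalf.Table

end

-- merged: Cfsg.Agent.OddHalf.CaseM.End
section

/-!
# Case (M) of D8: the end

`Intrinsic G M z`: `M` is a standard subgroup of `G` and `C_G(M) = ⟨z⟩`, `z ∈ M`.

`Intr`: there is no such `M` in the frame `Ctx G`. `IntrSign`: involutory outer automorphisms of `M / Z(M)` are detected
by a sign if `M` is a component of `C_G(z)` containing `z`.

`noComp`: `MainE.NoComp` holds for `SheetM`.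
-/

set_option autoImplicit false

namespace Cfsg.Agent.OddHalf.CaseM

open Subgroup Cfsg
open Cfsg.Agent.OddHalf.Iface
open Cfsg.Agent.OddHalf.D8.Sheet Cfsg.Agent.OddHalf.D8.GlueE Cfsg.Agent.OddHalf.D8.Front
open Cfsg.Agent.Cit (cj mem_cj conj_mem_cj conj_mem_cj_iff)
open Cfsg.Agent.SignalizersComponents.Components
open Cfsg.Agent.Schreier.Basic

open scoped commutatorElement

universe u

/-- `M` is standard in `G` and `C_G(M) = ⟨z⟩ ≤ M` -/
structure Intrinsic (G : Type u) [Group G] (M : Subgroup G) (z : G) : Prop where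
  hz : orderOf z = 2
  comp : CompOf z M
  zM : z ∈ M
  cent : centralizer (M : Set G) = zpowers z
  norm : normalizer (M : Set G) = centralizer ({z} : Set G)
  std : IsStandardSubgroup M
  ne_top : M ≠ ⊤
  z2 : IsPGroup 2 ↥(center ↥M)
  rk2 : ¬ PRankLE 2 1 ↥M
  simple : IsSimpleGroup (↥M ⧸ center ↥M)
  quo_na : ¬ IsMulCommutative (↥M ⧸ center ↥M)
  known : IsKnownSimple' (↥M ⧸ center ↥M)

/-- no intrinsic standard component with centralizer of order 2 -/
def Intr : Prop :=
  ∀ (G : Type u) [Group G], Ctx G → ∀ (M : Subgroup G) (z : G), Intrinsic G M z → False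

/-- signs of outer automorphisms of intrinsic components -/
def IntrSign : Prop :=
  ∀ (G : Type u) [Group G], Ctx G → ∀ (M : Subgroup G) (z : G), orderOf z = 2 → CompOf z M → z ∈ M →
    ¬ PRankLE 2 1 ↥M → IsSimpleGroup (↥M ⧸ center ↥M) → ¬ IsMulCommutative (↥M ⧸ center ↥M) →
    IsKnownSimple' (↥M ⧸ center ↥M) → Table.OutSign (↥M ⧸ center ↥M)

/-! ### perfect groups normalising a quasisimple group -/

theorem quoAut_conj' {L : Type*} [Group L] (x : L) :
    Cfsg.Agent.Schreier.Balance.quoAut L (MulAut.conj x) = MulAut.conj (QuotientGroup.mk x) := by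
  apply MulEquiv.ext
  intro y
  induction y using QuotientGroup.induction_on with
  | H a => rfl

theorem le_sup_centralizer {X : Type*} [Group X] {M P : Subgroup X} (hM : Group.IsPerfect M)
    (hSch : Sch (M ⧸ center M)) (hP : ⁅P, P⁆ = P) (hn : ∀ p ∈ P, cj p M = M) :
    P ≤ M ⊔ centralizer (M : Set X) := by
  have hPN : P ≤ normalizer (M : Set X) := by
    intro p hp
    rw [mem_normalizer_iff]
    intro x
    constructor
    · intro hx
      have := conj_mem_cj (g := p) hx
      rwa [hn p hp] at this
    · intro hx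
      rw [← hn p hp, mem_cj] at hx
      have e : p⁻¹ * (p * x * p⁻¹) * p = x := by group
      rwa [e] at hx
  set f : normalizer (M : Set X) →* MulAut (M ⧸ center M) :=
    (Cfsg.Agent.Schreier.Balance.quoAut M).comp M.normalizerMonoidHom with hf
  have hp : ⁅P.subgroupOf (normalizer (M : Set X)), P.subgroupOf (normalizer (M : Set X))⁆ =
      P.subgroupOf (normalizer (M : Set X)) := by
    apply map_injective (normalizer (M : Set X)).subtype_injective
    rw [map_commutator, subgroupOf_map_subtype, inf_of_le_left hPN, hP]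
  have h1 := hSch ((P.subgroupOf (normalizer (M : Set X))).map f) (by rw [← map_commutator, hp])
  intro p hpP
  obtain ⟨q, hq⟩ := h1 ⟨⟨p, hPN hpP⟩, mem_subgroupOf.2 hpP, rfl⟩
  induction q using QuotientGroup.induction_on with
  | H m =>
    rw [← quoAut_conj', hf, MonoidHom.comp_apply] at hq
    have h2 := Cfsg.Agent.Schreier.Balance.quoAut_injective hM hq
    have h3 : ∀ x ∈ M, (m : X) * x * (m : X)⁻¹ = p * x * p⁻¹ := by
      intro x hx
      have h4 := congrArg (fun φ : MulAut M => ((φ ⟨x, hx⟩ : M) : X)) h2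
      exact h4
    have h5 : (m : X)⁻¹ * p ∈ centralizer (M : Set X) := by
      rw [mem_centralizer_iff]
      intro x hx
      calc x * ((m : X)⁻¹ * p) = (m : X)⁻¹ * (m * x * (m : X)⁻¹) * p := by group
        _ = (m : X)⁻¹ * (p * x * p⁻¹) * p := by rw [h3 x hx]
        _ = (m : X)⁻¹ * p * x := by group
    have h6 : p = m * ((m : X)⁻¹ * p) := by group
    rw [h6]
    exact mul_mem (mem_sup_left m.2) (mem_sup_right h5)

/-! ### classical involutions -/

section

variable {G : Type u} [Group G]

theorem oddCore_eq_bot (C : Ctx G) {z : G} (hz : orderOf z = 2) {J : Subgroup G} (hJ : CompOf z J) :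
    oddCore ↥J = ⊥ := by
  have := C.fin
  have e0 : ↥(J.subgroupOf (centralizer ({z} : Set G))) ≃* ↥J := subgroupOfEquivOfLe hJ.1
  have hbal : pPrimeCore 2 ↥(centralizer ({z} : Set G)) = ⊥ := by
    have h1 := C.bal z hz
    rw [centralizerPPrimeCore, Subgroup.map_eq_bot_iff_of_injective _ (subtype_injective _)] at h1
    exact h1
  have hO' : oddCore ↥(J.subgroupOf (centralizer ({z} : Set G))) = ⊥ := by
    have h1 := Lib.PComponents.map_pPrimeCore_le_of_isSubnormal (p := 2) hJ.2.1
    rw [hbal, le_bot_iff, Subgroup.map_eq_bot_iff_of_injective _ (subtype_injective _)] at h1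
    exact h1
  have h1 := Lib.Cores.map_equiv_pPrimeCore e0 2
  rw [show pPrimeCore 2 ↥(J.subgroupOf (centralizer ({z} : Set G))) = ⊥ from hO', Subgroup.map_bot] at h1
  exact h1.symm

/-- a component of `C(z)` containing `z` has 2-rank at least 2 -/
theorem rank_two (C : Ctx G) (hGW : SylowSp4.Hyps.GW.{u}) {z : G} (hz : orderOf z = 2) {J : Subgroup G}
    (hJ : CompOf z J) (hzJ : z ∈ J) : ¬ PRankLE 2 1 ↥J := by
  intro hrk
  have hfin := C.fin
  have hO := oddCore_eq_bot C hz hJ
  have hq : IsQuasisimple ↥J := Soft.CompOf.quasisimple hJ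
  have e1 : ↥J ⧸ oddCore ↥J ≃* ↥J := (QuotientGroup.quotientMulEquivOfEq hO).trans QuotientGroup.quotientBot
  have hid := (D1.identify (K := ↥J ⧸ oddCore ↥J) hGW
    (Cfsg.Agent.SignalizersComponents.QsBasic.isQuasisimple_of_mulEquiv e1.symm hq) (by
      have h1 := Lib.Cores.map_equiv_pPrimeCore e1.symm 2
      rw [show pPrimeCore 2 ↥J = ⊥ from hO, Subgroup.map_bot] at h1
      exact h1.symm) (D1.rankLE_of_injective e1.toMonoidHom e1.injective hrk)).2
  exact C.classical z J hz ⟨hJ.1, hzJ, hJ.2.1⟩ hid

/-- a component of an involution centralizer has even order -/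
theorem even_card (C : Ctx G) {z : G} (hz : orderOf z = 2) {J : Subgroup G} (hJ : CompOf z J) :
    2 ∣ Nat.card J := by
  have hfin := C.fin
  by_contra h2
  have hO := oddCore_eq_bot C hz hJ
  have h1 : pPrimeCore 2 ↥J = ⊤ :=
    (Lib.Cores.pPrimeCore_eq_top_iff (G := ↥J) 2).2 (((Nat.Prime.coprime_iff_not_dvd Nat.prime_two).2 h2).symm)
  have hq : IsQuasisimple ↥J := Soft.CompOf.quasisimple hJ
  have := quasisimple_nontrivial hq
  have h3 : (⊤ : Subgroup J) = ⊥ := by rw [← h1]; exact hO
  exact top_ne_bot h3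

/-- the Schreier property of a component of an involution centralizer -/
theorem sch_of_comp (C : Ctx G) (hSch : Cfsg.Agent.Schreier.Cases.SchFor.{u} @IsKnownSimple') {z : G}
    (hz : orderOf z = 2) {J : Subgroup G} (hJ : CompOf z J) : Sch (↥J ⧸ center ↥J) := by
  have := C.fin
  have := C.simple
  have hq := Soft.CompOf.quasisimple hJ
  have hs := hq.2
  exact hSch _ (Soft.quo_na hq)
    (Known.known_quotient C.kproper J (Soft.CompOf.ne_top C.na hz hJ) _ hs (Soft.quo_na hq))

theorem compOf_map {z : G} {M : Subgroup ↥(centralizer ({z} : Set G))} (hM : IsComponent M) :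
    CompOf z (M.map (centralizer ({z} : Set G)).subtype) := by
  refine ⟨map_subtype_le _, ?_⟩
  have : (M.map (centralizer ({z} : Set G)).subtype).subgroupOf (centralizer ({z} : Set G)) = M :=
    comap_map_eq_self_of_injective (centralizer ({z} : Set G)).subtype_injective M
  rw [this]
  exact hM

/-- `P ≤ M` for every component `M` of `C_G(z)` -/
theorem main_comp (C : Ctx G) (hSch : Cfsg.Agent.Schreier.Cases.SchFor.{u} @IsKnownSimple')
    (hGW : SylowSp4.Hyps.GW.{u}) {K : Subgroup G} {t q : G} {z : K} {P R : Subgroup K}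
    (o : Out K t q z P) (sh : SheetE z P R) (m : SheetM P R)
    {M : Subgroup ↥(centralizer ({(z : G)} : Set G))} (hM : IsComponent M) :
    toX z P ≤ M ∧
      (((⟨t, mem_centralizer_singleton_iff.2 o.emb.comm⟩ : ↥(centralizer ({(z : G)} : Set G))) ∈ M) ∨
        (⟨t, mem_centralizer_singleton_iff.2 o.emb.comm⟩ : ↥(centralizer ({(z : G)} : Set G))) ∉
          M ⊔ centralizer (M : Set ↥(centralizer ({(z : G)} : Set G)))) := by
  have hfin := C.fin
  have h := hyp o sh m
  have hz := D8.MainE.orderOf_z o.emb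
  have hcomp := compOf_map hM
  have hSchM : Sch (↥M ⧸ center ↥M) := by
    have e : ↥(M.map (centralizer ({(z : G)} : Set G)).subtype) ≃* ↥M :=
      (M.equivMapOfInjective _ (centralizer ({(z : G)} : Set G)).subtype_injective).symm
    exact Cfsg.Agent.Schreier.Balance.sch_center_quotient e (sch_of_comp C hSch hz hcomp)
  have hev : 2 ∣ Nat.card M := by
    have h1 := even_card C hz hcomp
    rwa [Nat.card_congr (M.equivMapOfInjective _
      (centralizer ({(z : G)} : Set G)).subtype_injective).toEquiv.symm] at h1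
  rcases h.main hM (fun hn => le_sup_centralizer hM.2.1 hSchM h.Pperf hn) hev with ⟨hzM, huniq⟩ | ⟨hP, h2⟩
  · exfalso
    refine rank_two C hGW hz hcomp ⟨_, hzM, rfl⟩ ?_
    intro E _ hE
    -- all the elements of `E` are in `{1, z}`
    have hEz : ∀ x ∈ E, x = 1 ∨ ((x : ↥(M.map (centralizer ({(z : G)} : Set G)).subtype)) : G) = z := by
      intro x hx
      obtain ⟨y, hy, hyx⟩ := x.2
      have h1 : ((x : ↥(M.map (centralizer ({(z : G)} : Set G)).subtype)) : G) *
          ((x : ↥(M.map (centralizer ({(z : G)} : Set G)).subtype)) : G) = 1 := by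
        have := congrArg Subtype.val (hE x hx)
        rw [pow_two] at this
        exact this
      rcases huniq y hy (by
        apply Subtype.ext
        change (y : G) * y = 1
        have hyx' : (y : G) = ((x : ↥(M.map (centralizer ({(z : G)} : Set G)).subtype)) : G) := hyx
        rw [hyx']; exact h1) with e | e
      · left
        apply Subtype.ext
        rw [← hyx, e]; rfl
      · right
        rw [← hyx, e]; rfl
    have hle : E ≤ zpowers (⟨z, ⟨_, hzM, rfl⟩⟩ : ↥(M.map (centralizer ({(z : G)} : Set G)).subtype)) := by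
      intro x hx
      rcases hEz x hx with e | e
      · rw [e]; exact one_mem _
      · have : x = ⟨z, ⟨_, hzM, rfl⟩⟩ := Subtype.ext e
        rw [this]; exact mem_zpowers _
    have hcard := Subgroup.card_le_of_le hle
    rw [Nat.card_zpowers] at hcard
    have ho : orderOf (⟨z, ⟨_, hzM, rfl⟩⟩ : ↥(M.map (centralizer ({(z : G)} : Set G)).subtype)) = 2 := by
      rw [← Subgroup.orderOf_coe]; exact hz
    rw [ho] at hcard
    exact hcard
  · refine ⟨hP, ?_⟩
    rcases h2 with h3 | h3
    · exact Or.inl h3.1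
    · exact Or.inr h3

/-- **case (M)** -/
theorem noComp (hSch : Cfsg.Agent.Schreier.Cases.SchFor.{u} @IsKnownSimple')
    (hGW : SylowSp4.Hyps.GW.{u}) (hI : Intr.{u}) (hS : IntrSign.{u}) :
    D8.MainE.NoComp.{u} (fun _ _ _ P R => SheetM P R) := by
  intro G _ C K t q z P R o sh m M hM
  have hfin := C.fin
  have hsimp := C.simple
  have h := hyp o sh m
  have hz := D8.MainE.orderOf_z o.emb
  have hcomp := compOf_map hM
  have htH : t ∈ centralizer ({(z : G)} : Set G) := mem_centralizer_singleton_iff.2 o.emb.comm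
  obtain ⟨hP, hcase⟩ := main_comp C hSch hGW o sh m hM
  have hzM : (z : G) ∈ M.map (centralizer ({(z : G)} : Set G)).subtype :=
    ⟨⟨z, mem_centralizer_singleton_iff.2 rfl⟩, hP ⟨z, sh.zP, rfl⟩, rfl⟩
  have hrk := rank_two C hGW hz hcomp hzM
  have hq := Soft.CompOf.quasisimple hcomp
  have hnt := Soft.CompOf.ne_top C.na hz hcomp
  have hkn := Known.known_quotient C.kproper _ hnt _ hq.2 (Soft.quo_na hq)
  -- `t` does not centralise `M`
  have hnc : ∃ x ∈ M.map (centralizer ({(z : G)} : Set G)).subtype, t * x ≠ x * t := by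
    by_contra hcon
    push Not at hcon
    refine h.not_quasisimple hM.2 (h.RP.trans hP) ?_
    intro x hx
    exact Subtype.ext (hcon x ⟨x, hx, rfl⟩).symm
  rcases hcase with htM | htM
  · -- `t ∈ M`
    obtain ⟨-, hcent, hnorm, hstd⟩ := Table.lemmaS (D₀ := (P.map K.subtype : Subgroup G)) hz o.emb.st.tt
      hcomp.1 hcomp.2 hzM (by
        intro d hd
        have hdH : d ∈ centralizer ({(z : G)} : Set G) := map_le_cent sh.cen hd
        exact ⟨⟨d, hdH⟩, hP hd, rfl⟩) (by
        intro y hyz hyt hyP
        have hyH : y ∈ centralizer ({(z : G)} : Set G) := mem_centralizer_singleton_iff.2 hyz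
        rcases h.cR ⟨y, hyH⟩ (Subtype.ext hyt) (by
          intro r hr
          exact Subtype.ext (hyP r (h.RP hr))) with e | e | e | e
        · exact Or.inl (congrArg Subtype.val e)
        · exact Or.inr (Or.inr (Or.inl (congrArg Subtype.val e)))
        · exact Or.inr (Or.inl (congrArg Subtype.val e))
        · exact Or.inr (Or.inr (Or.inr (congrArg Subtype.val e))))
      ⟨t, ⟨_, htM, rfl⟩, fun x _ => rfl⟩ hnc
    exact hI G C _ z
      { hz := hz
        comp := hcomp
        zM := hzM
        cent := hcent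
        norm := hnorm
        std := hstd
        ne_top := hnt
        z2 := Soft.CompOf.center_isPGroup (C.bal _ hz) hcomp
        rk2 := hrk
        simple := hq.2
        quo_na := Soft.quo_na hq
        known := hkn }
  · -- `t ∉ M C(M)`: `M` is normal
    have hcj : ∀ g : ↥(centralizer ({(z : G)} : Set G)), cj g M = M := by
      intro g
      by_contra hne
      have hM2 : IsComponent (cj g M) := Cfsg.Agent.Cit.Comp.isComponent_cj hM g
      obtain ⟨hP2, -⟩ := main_comp C hSch hGW o sh m hM2
      apply h.Rna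
      intro a ha b hb
      exact Cfsg.Agent.Cit.Comp.comm_of_ne hM hM2 (fun e => hne e.symm) (hP (h.RP ha)) (hP2 (h.RP hb))
    have hn : ∀ g ∈ centralizer ({(z : G)} : Set G), ∀ x ∈ M.map (centralizer ({(z : G)} : Set G)).subtype,
        g * x * g⁻¹ ∈ M.map (centralizer ({(z : G)} : Set G)).subtype := by
      rintro g hg _ ⟨x, hx, rfl⟩
      refine ⟨⟨g, hg⟩ * x * ⟨g, hg⟩⁻¹, ?_, rfl⟩
      have := conj_mem_cj (g := (⟨g, hg⟩ : ↥(centralizer ({(z : G)} : Set G)))) hx
      rwa [hcj] at this
    have hperf : ⁅M.map (centralizer ({(z : G)} : Set G)).subtype,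
        M.map (centralizer ({(z : G)} : Set G)).subtype⁆ = M.map (centralizer ({(z : G)} : Set G)).subtype := by
      rw [← map_commutator, isPerfect_iff.1 hM.2.1]
    obtain ⟨lam, hlam, -, -⟩ := Table.exists_lam_sub hcomp.1 hn hperf (MulEquiv.refl _)
      (hS G C _ z hz hcomp hzM hrk hq.2 (Soft.quo_na hq) hkn) htH (by
        intro x _
        rw [o.emb.st.tt, one_mul, mul_one]) (by
        rintro _ ⟨x, hx, rfl⟩ c hc hcx e
        apply htM
        have e1 : (⟨t, htH⟩ : ↥(centralizer ({(z : G)} : Set G))) = x * ⟨c, hc⟩ := Subtype.ext e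
        rw [e1]
        refine mul_mem (mem_sup_left hx) (mem_sup_right ?_)
        rw [mem_centralizer_iff]
        intro y hy
        exact Subtype.ext (hcx y ⟨y, hy, rfl⟩).symm)
    have h1 : commutator (centralizer ({(z : G)} : Set G)) ≤ lam.ker := Abelianization.commutator_subset_ker lam
    have h2 : lam ⟨t, htH⟩ = 1 := h1 o.com
    rw [h2] at hlam
    exact absurd hlam (by decide)

end

end Cfsg.Agent.OddHalf.CaseM

end
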